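import Groth.Agent.LC17.IDepth

set_option autoImplicit false
universe u

open scoped Pointwise
open RingTheory.Sequence IsLocalRing

set_option maxHeartbeats 400000

/-!
# A minimal system of generators starting with a maximal regular sequence
-/

namespace Groth.Agent.H98CM

variable {R : Type u} [CommRing R] [IsNoetherianRing R]

/-- Depth along `J` drops by at most the length after dividing by a regular sequence in `J`. -/
lemma le_idealDepth_quot (J : Ideal R) : ∀ (rs : List R) (M : Type u) [AddCommGroup M] [Module R M]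
    [Module.Finite R M], IsWeaklyRegular M rs → (∀ r ∈ rs, r ∈ J) → ∀ n : ℕ,
    ((rs.length + n : ℕ) : ℕ∞) ≤ LocCoh.idealDepth J M →
      (n : ℕ∞) ≤ LocCoh.idealDepth J (M ⧸ Ideal.ofList rs • (⊤ : Submodule R M))
  | [], M, _, _, _, _, _, n, h => by
    rw [LC17.idealDepth_congr J (Submodule.quotEquivOfEqBot _ (by simp))]
    simpa using h
  | x :: rs, M, _, _, _, hreg, hmem, n, h => by
    rw [isWeaklyRegular_cons_iff] at hreg
    have hxJ : x ∈ J := hmem x (List.mem_cons_self ..)
    rw [LC17.idealDepth_congr J (Submodule.quotOfListConsSMulTopEquivQuotSMulTopInner M x rs)]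
    refine le_idealDepth_quot J rs _ hreg.2 (fun r hr => hmem r (List.mem_cons_of_mem _ hr)) n ?_
    rw [← LC17.natCast_succ_le_idealDepth_iff J hxJ hreg.1 (rs.length + n)]
    refine le_trans (le_of_eq ?_) h
    simp [add_right_comm]

variable [IsLocalRing R]

/-- One more regular element inside a minimal system of generators. -/
lemma exists_step (J : Ideal R) (hJ : J ≠ ⊤) (i : ℕ) (hd : ((i + 1 : ℕ) : ℕ∞) ≤ LocCoh.idealDepth J R)
    (ts : List R) (hlen : ts.length = Submodule.spanFinrank J) (hts : Ideal.ofList ts = J)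
    (hreg : IsWeaklyRegular R (ts.take i)) (hi : i ≤ ts.length) :
    i + 1 ≤ ts.length ∧ ∃ ts' : List R, ts'.length = Submodule.spanFinrank J ∧ Ideal.ofList ts' = J ∧
      IsWeaklyRegular R (ts'.take (i + 1)) := by
  classical
  set rs := ts.take i with hrs
  have hmemJ : ∀ r ∈ ts, r ∈ J := fun r hr => hts ▸ Ideal.subset_span hr
  let M := R ⧸ Ideal.ofList rs • (⊤ : Submodule R R)
  have hdep : ((1 : ℕ) : ℕ∞) ≤ LocCoh.idealDepth J M :=
    le_idealDepth_quot J rs R hreg (fun r hr => hmemJ r (List.mem_of_mem_take hr)) 1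
      (by rw [List.length_take, min_eq_left hi]; exact hd)
  rw [LC17.natCast_le_idealDepth_iff] at hdep
  obtain ⟨a, haJ, ha⟩ := LC17.exists_isSMulRegular_mem (M := M)
    ((LC15.subsingleton_H0_iff J M).mp (hdep 0 one_pos))
  have hrsJ : Ideal.ofList rs ≤ J := Ideal.span_le.mpr fun r hr => hmemJ r (List.mem_of_mem_take hr)
  have hne : Ideal.ofList rs ≠ J := by
    intro h
    have h0 : ∀ z : M, a • z = 0 := fun z => by
      obtain ⟨z, rfl⟩ := Submodule.Quotient.mk_surjective _ z
      rw [← Submodule.Quotient.mk_smul, Submodule.Quotient.mk_eq_zero]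
      exact Submodule.smul_mem_smul (h ▸ haJ) trivial
    have h1 : (Submodule.Quotient.mk (1 : R) : M) = 0 := ha.right_eq_zero_of_smul (h0 _)
    rw [Submodule.Quotient.mk_eq_zero] at h1
    apply hJ
    rw [Ideal.eq_top_iff_one]
    exact Submodule.smul_le.mpr (fun r hr m _ => by simpa using J.mul_mem_right m (hrsJ hr)) h1
  have hi' : i + 1 ≤ ts.length := by
    by_contra hcon
    exact hne (by rw [hrs, List.take_of_length_le (by omega), hts])
  refine ⟨hi', ?_⟩
  -- prime avoidance
  obtain ⟨x, hxJ, hxm, hxr⟩ : ∃ x ∈ J, x ∉ maximalIdeal R • J ⊔ Ideal.ofList rs ∧ IsSMulRegular M x := by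
    by_contra! hcon
    have hfin := associatedPrimes.finite R M
    let f : Option (Ideal R) → Ideal R := fun o => o.getD (maximalIdeal R • J ⊔ Ideal.ofList rs)
    let s : Finset (Option (Ideal R)) := insert none (hfin.toFinset.image some)
    have hsub : (J : Set R) ⊆ ⋃ o ∈ (↑s : Set (Option (Ideal R))), (f o : Set R) := by
      intro x hx
      by_cases hxm : x ∈ maximalIdeal R • J ⊔ Ideal.ofList rs
      · exact Set.mem_biUnion (x := none) (by simp [s]) hxm
      · have hx' : x ∈ ⋃ q ∈ associatedPrimes R M, (q : Set R) := by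
          rw [biUnion_associatedPrimes_eq_compl_regular R]
          exact hcon x hx hxm
        obtain ⟨q, hq, hxq⟩ := Set.mem_iUnion₂.mp hx'
        exact Set.mem_biUnion (x := some q) (by simp [s, hq]) hxq
    obtain ⟨o, ho, hJo⟩ := (Ideal.subset_union_prime none none (fun o ho hne _ => by
      obtain ⟨q, hq, rfl⟩ := Finset.mem_image.mp ((Finset.mem_insert.mp ho).resolve_left hne)
      exact IsAssociatedPrime.isPrime (hfin.mem_toFinset.mp hq))).mp hsub
    rcases Finset.mem_insert.mp ho with rfl | ho
    · refine hne (le_antisymm hrsJ ?_)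
      refine Submodule.le_of_le_smul_of_le_jacobson_bot (IsNoetherian.noetherian J) ?_ (hJo.trans (sup_comm _ _).le)
      exact le_of_eq (jacobson_eq_maximalIdeal ⊥ bot_ne_top).symm
    · obtain ⟨q, hq, rfl⟩ := Finset.mem_image.mp ho
      have : a ∈ ⋃ q ∈ associatedPrimes R M, (q : Set R) :=
        Set.mem_biUnion (hfin.mem_toFinset.mp hq) (hJo haJ)
      rw [biUnion_associatedPrimes_eq_compl_regular R] at this
      exact this ha
  -- exchange
  obtain ⟨c, hc⟩ : ∃ c : Fin ts.length → R, ∑ l, c l • ts.get l = x := by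
    rw [← Submodule.mem_span_range_iff_exists_fun, Set.range_list_get]
    show x ∈ Ideal.ofList ts
    rw [hts]; exact hxJ
  obtain ⟨l, hl, hlu⟩ : ∃ l : Fin ts.length, i ≤ l.val ∧ IsUnit (c l) := by
    by_contra! hcon
    refine hxm (hc ▸ Submodule.sum_mem _ fun l _ => ?_)
    by_cases hl : i ≤ l.val
    · exact Submodule.mem_sup_left (Submodule.smul_mem_smul
        ((mem_maximalIdeal _).mpr (hcon l hl)) (hmemJ _ (List.get_mem ts l)))
    · refine Submodule.mem_sup_right (Ideal.mul_mem_left _ _ (Ideal.subset_span ?_))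
      exact List.mem_take_iff_getElem.mpr ⟨l.val, by simp; omega, rfl⟩
  let rest := (ts.drop i).eraseIdx (l.val - i)
  have hperm : ts.Perm (rs ++ (ts.get l :: rest)) := by
    conv_lhs => rw [← List.take_append_drop i ts]
    refine List.Perm.append_left _ ?_
    have hlt : l.val - i < (ts.drop i).length := by simp; omega
    have : ts.get l = (ts.drop i)[l.val - i] := by simp [Nat.add_sub_cancel' hl]
    rw [this]
    exact (List.getElem_cons_eraseIdx_perm hlt).symm
  refine ⟨rs ++ (x :: rest), ?_, ?_, ?_⟩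
  · rw [← hlen, hperm.length_eq]; simp
  · have hset : ∀ y, y ∈ ts ↔ y ∈ rs ∨ y = ts.get l ∨ y ∈ rest := fun y => by
      rw [hperm.mem_iff]; simp
    have hin : ∀ z, z ∈ rs ∨ z = x ∨ z ∈ rest → z ∈ Ideal.ofList (rs ++ (x :: rest)) := fun z hz =>
      Ideal.subset_span (by simpa [or_assoc] using hz)
    have hother : ∀ l' : Fin ts.length, l' ≠ l → ts.get l' ∈ rs ∨ ts.get l' ∈ rest := fun l' hl' => by
      by_cases h : l'.val < i
      · exact Or.inl (List.mem_take_iff_getElem.mpr ⟨l'.val, by omega, rfl⟩)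
      · refine Or.inr (List.mem_eraseIdx_iff_getElem.mpr ⟨l'.val - i, by simp; omega, ?_, ?_⟩)
        · intro e
          exact hl' (Fin.ext (by omega))
        · simp [Nat.add_sub_cancel' (not_lt.mp h)]
    have hl' : c l * ts.get l ∈ Ideal.ofList (rs ++ (x :: rest)) := by
      have hx' : c l * ts.get l = x - ∑ l' ∈ Finset.univ.erase l, c l' • ts.get l' := by
        rw [← hc, ← Finset.add_sum_erase Finset.univ _ (Finset.mem_univ l), add_sub_cancel_right, smul_eq_mul]
      rw [hx']
      refine Ideal.sub_mem _ (hin x (Or.inr (Or.inl rfl))) (Submodule.sum_mem _ fun l' hl' => Ideal.mul_mem_left _ _ ?_)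
      rcases hother l' (Finset.ne_of_mem_erase hl') with h | h
      · exact hin _ (Or.inl h)
      · exact hin _ (Or.inr (Or.inr h))
    refine le_antisymm (Ideal.span_le.mpr fun y hy => ?_) ?_
    · have hy' : y ∈ rs ∨ y = x ∨ y ∈ rest := by
        have : y ∈ rs ++ (x :: rest) := hy
        simpa [or_assoc] using this
      rcases hy' with hy | rfl | hy
      · exact hmemJ y ((hset y).mpr (Or.inl hy))
      · exact hxJ
      · exact hmemJ y ((hset y).mpr (Or.inr (Or.inr hy)))
    · refine hts.ge.trans (Ideal.span_le.mpr fun y hy => ?_)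
      rcases (hset y).mp hy with h | rfl | h
      · exact hin y (Or.inl h)
      · exact (Ideal.unit_mul_mem_iff_mem _ hlu).mp hl'
      · exact hin y (Or.inr (Or.inr h))
  · have : (rs ++ (x :: rest)).take (i + 1) = rs ++ [x] := by
      rw [List.take_append]
      have : rs.length = i := by simp [hrs]; omega
      rw [List.take_of_length_le (by omega), this]
      simp
    rw [this, isWeaklyRegular_append_iff]
    exact ⟨hreg, IsWeaklyRegular.cons hxr (IsWeaklyRegular.nil _ _)⟩

/-- A minimal system of generators with a regular prefix. -/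
theorem exists_generators (J : Ideal R) (hJ : J ≠ ⊤) (j : ℕ) (hd : (j : ℕ∞) ≤ LocCoh.idealDepth J R) :
    j ≤ Submodule.spanFinrank J ∧ ∃ ts : List R, ts.length = Submodule.spanFinrank J ∧
      Ideal.ofList ts = J ∧ IsRegular R (ts.take j) := by
  suffices h : ∀ i ≤ j, i ≤ Submodule.spanFinrank J ∧ ∃ ts : List R, ts.length = Submodule.spanFinrank J ∧
      Ideal.ofList ts = J ∧ IsWeaklyRegular R (ts.take i) by
    obtain ⟨hj, ts, hlen, hts, hreg⟩ := h j le_rfl
    refine ⟨hj, ts, hlen, hts, hreg, ?_⟩
    intro htop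
    apply hJ
    rw [Ideal.eq_top_iff_one]
    refine Submodule.smul_le.mpr (fun r hr m _ => ?_) (htop ▸ trivial : (1 : R) ∈ Ideal.ofList (ts.take j) • (⊤ : Submodule R R))
    refine J.mul_mem_right m ?_
    rw [← hts]
    exact Ideal.span_mono (fun z hz => List.mem_of_mem_take hz) hr
  intro i
  induction i with
  | zero =>
    intro _
    have hfg := IsNoetherian.noetherian J
    obtain ⟨s, hs, hspan⟩ := hfg.exists_span_set_encard_eq_spanFinrank
    have hfin : s.Finite := Set.finite_of_encard_eq_coe hs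
    refine ⟨Nat.zero_le _, hfin.toFinset.toList, ?_, ?_, by simp [IsWeaklyRegular.nil]⟩
    · rw [Finset.length_toList]
      have := hfin.encard_eq_coe_toFinset_card
      rw [hs] at this
      exact_mod_cast this.symm
    · rw [← hspan, Ideal.ofList]
      congr 1
      ext; simp
  | succ i ih =>
    intro hi
    obtain ⟨hile, ts, hlen, hts, hreg⟩ := ih (Nat.le_of_succ_le hi)
    obtain ⟨h1, h2⟩ := exists_step J hJ i (le_trans (by exact_mod_cast hi) hd) ts hlen hts hreg (hlen ▸ hile)
    exact ⟨hlen ▸ h1, h2⟩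

end Groth.Agent.H98CM
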